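import Groth.Agent.L29.BC.PFNat
import Groth.Agent.L29.DCoh.ProjMap
import Groth.Agent.L29.DCoh.RpushQCoh
import Groth.Agent.L00.RpushComp
import Groth.Agent.L00.LComp
import Mathlib.AlgebraicGeometry.Morphisms.Separated

/-!
The Fourier–Mukai functor of the structure sheaf of a closed diagonal is the identity.
-/

set_option autoImplicit false
set_option linter.style.haveILetI false
set_option backward.defeqAttrib.useBackward true
set_option backward.isDefEq.respectTransparency false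
set_option backward.isDefEq.respectTransparency.types false

universe u

open CategoryTheory CategoryTheory.Limits AlgebraicGeometry

attribute [local instance] HasDerivedCategory.standard

namespace Groth.L10.FMDiag

open Groth.L29.BC Groth.L29.DC

variable {X Y : Scheme.{u}}

/-- a natural transformation invertible on K-flat complexes is invertible -/
theorem isIso_of_kflat {C : Type*} [Category C] {F G : DCoh.D Y ⥤ C} (τ : F ⟶ G)
    (h : ∀ P : CochainComplex Y.Modules ℤ, DCoh.IsKFlat P → IsIso (τ.app (DerivedCategory.Q.obj P))) : IsIso τ := by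
  haveI : ∀ K, IsIso (τ.app K) := fun K => by
    obtain ⟨P, q, hP, -, hq, -⟩ := Groth.L00.KFlat.exists_resolution (DerivedCategory.Q.objPreimage K)
    haveI := (DerivedCategory.isIso_Q_map_iff_quasiIso _ q).2 hq
    let e := asIso (DerivedCategory.Q.map q) ≪≫ DerivedCategory.Q.objObjPreimageIso K
    exact (NatTrans.isIso_app_iff_of_iso τ e).1 (h P hP)
  exact NatIso.isIso_of_isIso_app τ

theorem isIso_pushComp (f : X ⟶ Y) [IsClosedImmersion f] [DCoh.HasRpush f] (J : CochainComplex X.Modules ℤ) :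
    IsIso (SupportAdj.pushComp f J) := by
  haveI := Groth.L17.ClosedPush.preservesColimits_push f
  haveI : PreservesColimitsOfSize.{0, 0} (Scheme.Modules.pushforward f) := preservesColimitsOfSize_shrink.{0, u, 0, u} _
  haveI : PreservesFiniteColimits (Scheme.Modules.pushforward f) :=
    PreservesColimitsOfSize.preservesFiniteColimits _
  haveI : PreservesLimitsOfSize.{0, 0} (Scheme.Modules.pushforward f) :=
    (Scheme.Modules.pullbackPushforwardAdjunction f).rightAdjoint_preservesLimits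
  haveI : PreservesFiniteLimits (Scheme.Modules.pushforward f) :=
    PreservesLimitsOfSize.preservesFiniteLimits _
  let F := Scheme.Modules.pushforward f
  let W := HomotopyCategory.quasiIso X.Modules (ComplexShape.up ℤ)
  let e : DerivedCategory.Qh ⋙ F.mapDerivedCategory ≅ DCoh.pushKh f := F.mapDerivedCategoryFactorsh
  have hF : W.IsInvertedBy (DCoh.pushKh f) := fun _ _ g hg => by
    haveI := Localization.inverts DerivedCategory.Qh W g hg
    exact (NatIso.isIso_map_iff e g).1 (inferInstanceAs (IsIso (F.mapDerivedCategory.map (DerivedCategory.Qh.map g))))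
  haveI := Functor.isIso_of_isRightDerivedFunctor_of_inverts (DCoh.Rpush f)
    ((DCoh.pushKh f).totalRightDerivedUnit DerivedCategory.Qh W) hF
  unfold SupportAdj.pushComp
  infer_instance

/-- direct image along a closed immersion is computed termwise, naturally -/
noncomputable def rpushIso (f : X ⟶ Y) [IsClosedImmersion f] [DCoh.HasRpush f] :
    Proj.pushCx f ⋙ DerivedCategory.Q ≅ DerivedCategory.Q ⋙ DCoh.Rpush f :=
  NatIso.ofComponents (fun J => @asIso _ _ _ _ (SupportAdj.pushComp f J) (isIso_pushComp f J))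
    (fun a => SupportAdj.pushComp_natural f a)

theorem nonempty_Rpush_id [DCoh.HasRpush (𝟙 X)] : Nonempty (DCoh.Rpush (𝟙 X) ≅ 𝟭 (DCoh.D X)) := by
  haveI := Groth.L17.PushQCoh.additive_push (𝟙 X)
  let pm : Proj.pushCx (𝟙 X) ≅ 𝟭 _ :=
    NatIso.mapHomologicalComplex (Scheme.Modules.pushforwardId X) (ComplexShape.up ℤ) ≪≫
      Functor.mapHomologicalComplexIdIso _ _
  let e : DerivedCategory.Q ⋙ DCoh.Rpush (𝟙 X) ≅ DerivedCategory.Q ⋙ 𝟭 (DCoh.D X) :=
    (rpushIso (𝟙 X)).symm ≪≫ Functor.isoWhiskerRight pm _ ≪≫ Functor.leftUnitor _ ≪≫ (Functor.rightUnitor _).symm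
  exact ⟨Localization.liftNatIso DerivedCategory.Q
    (HomologicalComplex.quasiIso X.Modules (ComplexShape.up ℤ)) _ _ _ _ e⟩

theorem nonempty_Lpull_id [DCoh.HasLpull (𝟙 X)] : Nonempty (DCoh.Lpull (𝟙 X) ≅ 𝟭 (DCoh.D X)) := by
  haveI : (Scheme.Modules.pullback (𝟙 X)).Additive :=
    (Scheme.Modules.pullbackPushforwardAdjunction (𝟙 X)).left_adjoint_additive
  let pm : Proj.pullCx (𝟙 X) ≅ 𝟭 _ :=
    NatIso.mapHomologicalComplex (Scheme.Modules.pullbackId X) (ComplexShape.up ℤ) ≪≫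
      Functor.mapHomologicalComplexIdIso _ _
  let o := fun (P : CochainComplex X.Modules ℤ) hP =>
    Groth.L00.DerivedApi.objIso (Groth.L00.DerivedApi.acyclicKFlat_pullback (𝟙 X)) P hP
  obtain ⟨τ, hτ⟩ := PFNat.exists_natTrans (DCoh.Lpull (𝟙 X)) (𝟭 (DCoh.D X))
    (fun P hP => (o P hP).hom ≫ DerivedCategory.Q.map (pm.hom.app P))
    (fun {P P'} hP hP' m => by
      have h1 : DerivedCategory.Q.map ((Proj.pullCx (𝟙 X)).map m) ≫ DerivedCategory.Q.map (pm.hom.app P') =
          DerivedCategory.Q.map (pm.hom.app P) ≫ DerivedCategory.Q.map m := by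
        rw [← Functor.map_comp, ← Functor.map_comp]
        exact congrArg DerivedCategory.Q.map (pm.hom.naturality m)
      simp only [o, Functor.id_map, Category.assoc]
      rw [reassoc_of% (PFNat.objIso_natural (𝟙 X) hP hP' m), h1])
  haveI := isIso_of_kflat τ fun P hP => by rw [hτ P hP]; infer_instance
  exact ⟨asIso τ⟩

theorem isIso_proj (f : X ⟶ Y) [IsClosedImmersion f] (G : CochainComplex X.Modules ℤ)
    (P : CochainComplex Y.Modules ℤ) : IsIso (Proj.proj f G P) := by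
  haveI := Groth.L17.ClosedPush.preservesColimits_push f
  haveI : PreservesColimitsOfSize.{0, 0} (Scheme.Modules.pushforward f) := preservesColimitsOfSize_shrink.{0, u, 0, u} _
  haveI := Groth.L17.PushQCoh.additive_push f
  haveI : (Scheme.Modules.pullback f).Additive :=
    (Scheme.Modules.pullbackPushforwardAdjunction f).left_adjoint_additive
  haveI : HomologicalComplex.HasMapBifunctor G P (Proj.biF f) (ComplexShape.up ℤ) := fun _ => inferInstance
  haveI hβ : ∀ A N, IsIso (Proj.β₀ f A N) := fun A N => by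
    haveI := Groth.L17.ClosedPush.isIso_θ f A N
    delta Proj.β₀
    infer_instance
  delta Proj.proj
  haveI : ∀ j, IsIso ((TotalMap.map (Proj.biF f) (DCoh.tensorBi (X := Y)) (Scheme.Modules.pushforward f) (𝟭 Y.Modules)
      (Scheme.Modules.pushforward f) (fun A N => Proj.β₀ f A N) (fun g N => Proj.hβ₁ f g N)
      (fun A _ _ g => Proj.hβ₂ f A g) G P).f j) := fun j => by
    have h : TotalMap.mapX (Proj.biF f) (DCoh.tensorBi (X := Y)) (Scheme.Modules.pushforward f) (𝟭 Y.Modules)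
        (Scheme.Modules.pushforward f) (fun A N => Proj.β₀ f A N) G P j =
        Groth.L00.FunctorTotal.compX (Proj.biF f) (DCoh.tensorBi (X := Y)) (Scheme.Modules.pushforward f) (𝟭 Y.Modules)
        (Scheme.Modules.pushforward f) (fun A N => asIso (Proj.β₀ f A N)) G P (c := ComplexShape.up ℤ) j := by
      apply HomologicalComplex.mapBifunctor.hom_ext
      intro p q hpq
      rw [TotalMap.ι_mapX, Groth.L00.FunctorTotal.ι_compX]
      rfl
    change IsIso (TotalMap.mapX _ _ _ _ _ _ G P j)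
    rw [h]
    exact Groth.L00.FunctorTotal.isIso_compX _ _ _ _ _ _ _ _ j
  haveI := HomologicalComplex.Hom.isIso_of_components (TotalMap.map (Proj.biF f) (DCoh.tensorBi (X := Y))
    (Scheme.Modules.pushforward f) (𝟭 Y.Modules) (Scheme.Modules.pushforward f) (fun A N => Proj.β₀ f A N)
    (fun g N => Proj.hβ₁ f g N) (fun A _ _ g => Proj.hβ₂ f A g) G P)
  exact IsIso.comp_isIso' ‹_› inferInstance

theorem nonempty_LTensorCx_O0 [DCoh.HasLTensorCx (RHom.O0 X)] :
    Nonempty (DCoh.LTensorCx (RHom.O0 X) ≅ 𝟭 (DCoh.D X)) := by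
  have hE : DCoh.IsKFlat (RHom.O0 X) := isKFlat_of_isStrictlyPerfect RHom.isStrictlyPerfect_O0
  let e : DerivedCategory.Q ⋙ DCoh.LTensorCx (RHom.O0 X) ≅ DerivedCategory.Q ⋙ 𝟭 (DCoh.D X) :=
    Assoc.allIso _ hE ≪≫ Functor.isoWhiskerRight RHom.unitCxIso _ ≪≫ Functor.leftUnitor _ ≪≫ (Functor.rightUnitor _).symm
  exact ⟨Localization.liftNatIso DerivedCategory.Q
    (HomologicalComplex.quasiIso X.Modules (ComplexShape.up ℤ)) _ _ _ _ e⟩

/-- `- ⊗^L f_* O ≅ Rf_* Lf^*` for a closed immersion -/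
theorem nonempty_tensor_push (f : X ⟶ Y) [IsClosedImmersion f] [DCoh.HasRpush f] [DCoh.HasLpull f]
    [DCoh.HasLTensorCx ((Proj.pushCx f).obj (RHom.O0 X))] :
    Nonempty (DCoh.LTensorCx ((Proj.pushCx f).obj (RHom.O0 X)) ≅ DCoh.Lpull f ⋙ DCoh.Rpush f) := by
  haveI : DCoh.HasLTensorCx (RHom.O0 X) := Groth.L00.KFlat.hasLTensorCx _
  obtain ⟨τ, hτ⟩ := PFNat.exists_natTrans (DCoh.LTensorCx ((Proj.pushCx f).obj (RHom.O0 X)))
    (DCoh.Lpull f ⋙ DCoh.LTensorCx (RHom.O0 X) ⋙ DCoh.Rpush f)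
    (PFNat.pf f (RHom.O0 X) (𝟙 _)) (fun hP hP' m => PFNat.pf_natural f (RHom.O0 X) (𝟙 _) hP hP' m)
  haveI := isIso_of_kflat τ fun P hP => by
    rw [hτ P hP]
    haveI := LTExact.isIso_cnt (RHom.O0 X) (Groth.L00.KFlat.pullback_kflat f P hP)
    haveI := LTExact.isIso_cnt ((Proj.pushCx f).obj (RHom.O0 X)) hP
    haveI := isIso_proj f (RHom.O0 X) P
    haveI := isIso_pushComp f (ProjQis.T f (RHom.O0 X) P)
    unfold PFNat.pf
    infer_instance
  obtain ⟨i⟩ := nonempty_LTensorCx_O0 (X := X)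
  exact ⟨asIso τ ≪≫ Functor.isoWhiskerLeft _ (Functor.isoWhiskerRight i _ ≪≫ Functor.leftUnitor _)⟩

theorem nonempty_Lpull_eq_id {h : X ⟶ X} (hh : h = 𝟙 X) [DCoh.HasLpull h] :
    Nonempty (DCoh.Lpull h ≅ 𝟭 (DCoh.D X)) := by
  subst hh; exact nonempty_Lpull_id

theorem nonempty_Rpush_eq_id {h : X ⟶ X} (hh : h = 𝟙 X) [DCoh.HasRpush h] :
    Nonempty (DCoh.Rpush h ≅ 𝟭 (DCoh.D X)) := by
  subst hh; exact nonempty_Rpush_id

/-- the kernel `i_* O` of a closed section `i` of `p` and `q` gives the identity -/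
theorem nonempty_phi_id {Z : Scheme.{u}} (i : X ⟶ Z) [IsClosedImmersion i] (p q : Z ⟶ X) (hp : i ≫ p = 𝟙 X)
    (hq : i ≫ q = 𝟙 X) (K : CochainComplex Z.Modules ℤ)
    (hK : Nonempty (DCoh.toD Z K ≅ DCoh.inD Z ((Coh.push i).obj (Coh.structureModule X))))
    [DCoh.HasLpull p] [DCoh.HasLTensorCx K] [DCoh.HasRpush q] :
    Nonempty (DCoh.Lpull p ⋙ DCoh.LTensorCx K ⋙ DCoh.Rpush q ≅ 𝟭 (DCoh.D X)) := by
  haveI := Groth.L17.PushQCoh.additive_push i
  haveI := Groth.L00.KFlat.hasLpull i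
  haveI := RpushQC.hasRpush i
  haveI := Groth.L00.KFlat.hasLpull (i ≫ p)
  haveI := RpushQC.hasRpush (i ≫ q)
  haveI : DCoh.HasLTensorCx ((Proj.pushCx i).obj (RHom.O0 X)) := Groth.L00.KFlat.hasLTensorCx _
  obtain ⟨eK⟩ := hK
  let eA : DCoh.inD Z ((Coh.push i).obj (Coh.structureModule X)) ≅
      DerivedCategory.Q.obj ((Proj.pushCx i).obj (RHom.O0 X)) :=
    (DerivedCategory.singleFunctorIsoCompQ Z.Modules 0).app _ ≪≫
      DerivedCategory.Q.mapIso ((HomologicalComplex.singleMapHomologicalComplex (Scheme.Modules.pushforward i)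
        (ComplexShape.up ℤ) 0).app (Coh.structureModule X)).symm
  obtain ⟨c⟩ := ProjQC.nonempty_LTensorCx_congr (eK ≪≫ eA)
  obtain ⟨t⟩ := nonempty_tensor_push i
  obtain ⟨l⟩ := Groth.L00.DerivedApi.lpull_comp i p
  obtain ⟨r⟩ := Groth.L00.RpushComp.rpush_comp i q
  obtain ⟨l'⟩ := nonempty_Lpull_eq_id hp
  obtain ⟨r'⟩ := nonempty_Rpush_eq_id hq
  exact ⟨Functor.isoWhiskerLeft _ (Functor.isoWhiskerRight (c ≪≫ t) _ ≪≫ Functor.associator _ _ _) ≪≫
    (Functor.associator _ _ _).symm ≪≫ Functor.isoWhiskerRight (l ≪≫ l') _ ≪≫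
    Functor.isoWhiskerLeft _ (r ≪≫ r') ≪≫ Functor.leftUnitor _⟩

end Groth.L10.FMDiag
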